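import Cfsg.Agent.Lib.Helper58.SpecProd.Defs

/-!
# SpecProd package U (helper57): glue of `PkgUBound` and `PkgUEx`
-/

set_option autoImplicit false

namespace Cfsg.Agent.Lib.Helper57.SpecProd

open Cfsg.Agent.Lib.Helper58.SpecProd

universe u

theorem pkgU_of (hUB : PkgUBound.{u}) (hUE : PkgUEx.{u}) : PkgU.{u} := by
  intro F _ _ p a n r hp hq hn hr hrq hrn hnp x hx
  obtain ⟨t, ht⟩ := hx
  obtain ⟨T₀, w, hnT, hw⟩ := hUE p a n r hp hq hn hr hrq hrn hnp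
  have htT : t ≤ T₀ := hUB p a n hp hq hn x t T₀ ht hnT
  have hsplit : p ^ T₀ * r = p ^ (T₀ - t) * (p ^ t * r) := by
    rw [← mul_assoc, ← pow_add, Nat.sub_add_cancel htT]
  have hne : p ^ (T₀ - t) ≠ 0 := pow_ne_zero _ hp.ne_zero
  have hdvd : p ^ (T₀ - t) ∣ orderOf w := by
    rw [hw, hsplit]; exact dvd_mul_right _ _
  refine ⟨w ^ (p ^ (T₀ - t)), ?_⟩
  rw [orderOf_pow_of_dvd hne hdvd, hw, hsplit, Nat.mul_div_cancel_left _ (Nat.pos_of_ne_zero hne),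
    ht]

end Cfsg.Agent.Lib.Helper57.SpecProd
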